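import Cfsg.Agent.CSixNine.Standard

/-!
Standard coordinates for groups of symplectic type of order `3^5` in dimension nine, with the change
of basis as a pair of matrices.
-/

set_option autoImplicit false
set_option linter.unusedSectionVars false

namespace Cfsg.Agent.CSixNineTwo

open Matrix Cfsg.Geo Cfsg.Agent.CSixNine
open scoped MatrixGroups Matrix Kronecker

variable {F : Type*} [Field F] {ω : F} {R : Subgroup (GL (Fin 9) F)}

/-- The change of coordinates. -/
theorem exists_coord_matrix [Finite F] (hR : RData ω R) :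
    ∃ (P : Matrix (Fin 9) I9 F) (W : Matrix I9 (Fin 9) F), W * P = 1 ∧ P * W = 1 ∧
      ∀ g : GL (Fin 9) F, g ∈ R ↔
        ∃ (t : K3) (v : W9), W * (g : Matrix (Fin 9) (Fin 9) F) * P = wp ω t • P9 ω v := by
  classical
  have hω := hR.om
  obtain ⟨Q⟩ := hR.exists_quad
  set A₁ := (Q.a₁ : Matrix (Fin 9) (Fin 9) F) with hA₁
  set B₁ := (Q.b₁ : Matrix (Fin 9) (Fin 9) F) with hB₁
  set A₂ := (Q.a₂ : Matrix (Fin 9) (Fin 9) F) with hA₂
  set B₂ := (Q.b₂ : Matrix (Fin 9) (Fin 9) F) with hB₂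
  have cube : ∀ {g : GL (Fin 9) F}, g ∈ R → (g : Matrix (Fin 9) (Fin 9) F) ^ 3 = 1 := by
    intro g hg
    rw [← Units.val_pow_eq_pow_val, hR.cube g hg, Units.val_one]
  have pmod : ∀ {g : GL (Fin 9) F}, g ∈ R → ∀ n : ℕ,
      (g : Matrix (Fin 9) (Fin 9) F) ^ n = (g : Matrix (Fin 9) (Fin 9) F) ^ (n % 3) := by
    intro g hg n
    conv_lhs => rw [← Nat.div_add_mod n 3, pow_add, pow_mul, cube hg, one_pow, one_mul]
  -- the common eigenvector
  let E : Matrix (Fin 9) (Fin 9) F → Matrix (Fin 9) (Fin 9) F := fun A => 1 + A + A * A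
  have hEA : ∀ {g : GL (Fin 9) F}, g ∈ R → (g : Matrix (Fin 9) (Fin 9) F) * E g = E g := by
    intro g hg
    have := cube hg
    rw [pow_succ, pow_two] at this
    simp only [E, mul_add, mul_one, ← Matrix.mul_assoc, this]
    abel
  have hsum : ∀ {A B : Matrix (Fin 9) (Fin 9) F}, Cm ω A B 1 → ∀ M : Matrix (Fin 9) (Fin 9) F,
      E A * M = 0 → B * M = M * B → IsUnit B → M = 0 := by
    intro A B hc M h0 hBM hB
    have r : ∀ n : ℕ, A * B ^ n = (ω ^ n) • (B ^ n * A) := fun n => by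
      have h := Cm.pow_right hω hc n
      rw [Cm, mul_one, hω.wp_natCast] at h
      exact h
    have hk : ∀ n : ℕ, (1 + ω ^ n • A + (ω ^ n * ω ^ n) • (A * A)) * M = 0 := by
      intro n
      refine (hB.pow n).mul_right_eq_zero.1 ?_
      have e : B ^ n * (1 + ω ^ n • A + (ω ^ n * ω ^ n) • (A * A)) = E A * B ^ n := by
        have r2 : A * A * B ^ n = (ω ^ n * ω ^ n) • (B ^ n * (A * A)) := by
          rw [Matrix.mul_assoc, r, Matrix.mul_smul, ← Matrix.mul_assoc, r, Matrix.smul_mul,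
            smul_smul, Matrix.mul_assoc]
        simp only [E, add_mul, mul_add, one_mul, mul_one, Matrix.mul_smul, r, r2]
      rw [← Matrix.mul_assoc, e, Matrix.mul_assoc,
        ((Commute.pow_left (show Commute B M from hBM) n)).eq, ← Matrix.mul_assoc, h0,
        Matrix.zero_mul]
    have e3 : (1 + ω ^ 0 • A + (ω ^ 0 * ω ^ 0) • (A * A)) +
        (1 + ω ^ 1 • A + (ω ^ 1 * ω ^ 1) • (A * A)) +
        (1 + ω ^ 2 • A + (ω ^ 2 * ω ^ 2) • (A * A)) = (3 : F) • 1 := by
      have e4 : ω ^ 2 * ω ^ 2 = ω := by linear_combination ω * hω.cube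
      have e1 : (1 : F) + ω + ω ^ 2 = 0 := by linear_combination hω.eqn
      rw [e4]
      match_scalars <;> first | ring1 | linear_combination hω.eqn
    have := congrArg (fun X => X * M) e3
    simp only [add_mul] at this
    rw [← add_mul, ← add_mul, hk 0, ← add_mul, ← add_mul, hk 1, ← add_mul, ← add_mul, hk 2,
      Matrix.smul_mul, Matrix.one_mul, add_zero, add_zero] at this
    exact (smul_eq_zero.1 this.symm).resolve_left hω.three
  have hcomm : ∀ {X Y : Matrix (Fin 9) (Fin 9) F}, Cm ω X Y 0 → X * Y = Y * X := fun h => by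
    rw [Cm, wp_zero, one_smul] at h; exact h
  have hE0 : E A₁ * E A₂ ≠ 0 := by
    intro h0
    have h1 : E A₂ = 0 := by
      refine hsum Q.c₁ _ h0 ?_ Q.b₁.isUnit
      have := hcomm Q.cba
      simp only [E, mul_add, add_mul, mul_one, one_mul, ← Matrix.mul_assoc, ← hA₂, ← hB₁] at this ⊢
      rw [this, Matrix.mul_assoc A₂ B₁ A₂, this, ← Matrix.mul_assoc]
    have h2 : (1 : Matrix (Fin 9) (Fin 9) F) = 0 :=
      hsum Q.c₂ 1 (by rw [Matrix.mul_one]; exact h1) (by rw [one_mul, mul_one]) Q.b₂.isUnit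
    exact one_ne_zero h2
  obtain ⟨u, hu⟩ : ∃ u : Fin 9 → F, (E A₁ * E A₂) *ᵥ u ≠ 0 := by
    by_contra hcon
    push Not at hcon
    exact hE0 (Matrix.ext_of_mulVec_single fun i => by rw [hcon, Matrix.zero_mulVec])
  set v := (E A₁ * E A₂) *ᵥ u with hv
  have hv1 : A₁ *ᵥ v = v := by rw [hv, Matrix.mulVec_mulVec, ← Matrix.mul_assoc, hEA Q.m₁]
  have hv2 : A₂ *ᵥ v = v := by
    rw [hv, Matrix.mulVec_mulVec, ← Matrix.mul_assoc]
    have e : A₂ * E A₁ = E A₁ * A₂ := by
      have := hcomm Q.caa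
      simp only [E, mul_add, add_mul, mul_one, one_mul, ← Matrix.mul_assoc, ← hA₂, ← hA₁] at this ⊢
      rw [← this, Matrix.mul_assoc A₁ A₂ A₁, ← this, ← Matrix.mul_assoc]
    rw [e, Matrix.mul_assoc, hEA Q.m₂]
  -- the basis
  let cl : I9 → Fin 9 → F := fun p => (B₁ ^ p.1.val * B₂ ^ p.2.val) *ᵥ v
  let P : Matrix (Fin 9) I9 F := Matrix.of fun k p => cl p k
  have eig : ∀ {A : Matrix (Fin 9) (Fin 9) F} {s t : K3} (p : I9), Cm ω A B₁ s → Cm ω A B₂ t →
      A *ᵥ v = v → A *ᵥ cl p = wp ω (p.1 * s + p.2 * t) • cl p := by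
    intro A s t p h1 h2 hA
    have h := (Cm.pow_right hω h1 p.1.val).mul_right hω (Cm.pow_right hω h2 p.2.val)
    rw [ZMod.natCast_zmod_val, ZMod.natCast_zmod_val, Cm] at h
    show A *ᵥ ((B₁ ^ p.1.val * B₂ ^ p.2.val) *ᵥ v) = _
    rw [Matrix.mulVec_mulVec, h, Matrix.smul_mulVec, ← Matrix.mulVec_mulVec, hA]
  have e1 : ∀ p : I9, A₁ *ᵥ cl p = wp ω p.1 • cl p := fun p => by
    simpa using eig p Q.c₁ Q.cab hv1
  have e2 : ∀ p : I9, A₂ *ᵥ cl p = wp ω p.2 • cl p := fun p => by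
    simpa using eig p (Q.cba.symm hω) Q.c₂ hv2
  have eb1 : ∀ p : I9, B₁ *ᵥ cl p = cl (p + (1, 0)) := by
    intro p
    show B₁ *ᵥ ((B₁ ^ p.1.val * B₂ ^ p.2.val) *ᵥ v) =
      (B₁ ^ (p.1 + 1).val * B₂ ^ (p.2 + 0).val) *ᵥ v
    rw [Matrix.mulVec_mulVec, ← Matrix.mul_assoc, ← pow_succ', add_zero, ZMod.val_add, ← pmod Q.n₁,
      ZMod.val_one]
  have eb2 : ∀ p : I9, B₂ *ᵥ cl p = cl (p + (0, 1)) := by
    intro p
    show B₂ *ᵥ ((B₁ ^ p.1.val * B₂ ^ p.2.val) *ᵥ v) =
      (B₁ ^ (p.1 + 0).val * B₂ ^ (p.2 + 1).val) *ᵥ v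
    have hc : B₂ * B₁ ^ p.1.val = B₁ ^ p.1.val * B₂ :=
      (Commute.pow_right (show Commute B₂ B₁ from (hcomm Q.cbb).symm) _).eq
    rw [Matrix.mulVec_mulVec, ← Matrix.mul_assoc, hc, Matrix.mul_assoc, ← pow_succ', add_zero,
      ZMod.val_add, ← pmod Q.n₂, ZMod.val_one]
  have hcl0 : ∀ p, cl p ≠ 0 := by
    intro p h
    have hu' : IsUnit (B₁ ^ p.1.val * B₂ ^ p.2.val) :=
      (Q.b₁.isUnit.pow _).mul (Q.b₂.isUnit.pow _)
    obtain ⟨V, hV⟩ := hu'.exists_left_inv
    refine hu ?_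
    calc v = V *ᵥ cl p := by
          show v = V *ᵥ ((B₁ ^ p.1.val * B₂ ^ p.2.val) *ᵥ v)
          rw [Matrix.mulVec_mulVec, hV, Matrix.one_mulVec]
      _ = 0 := by rw [h, Matrix.mulVec_zero]
  have hli : LinearIndependent F cl := by
    rw [Fintype.linearIndependent_iff]
    intro c hc p
    -- project on the eigenspace of `cl p`
    let π : Matrix (Fin 9) (Fin 9) F :=
      (1 + wp ω (-p.1) • A₁ + wp ω (p.1) • (A₁ * A₁)) *
        (1 + wp ω (-p.2) • A₂ + wp ω (p.2) • (A₂ * A₂))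
    have hw : ∀ i q : K3, (1 : F) + wp ω (-i) * wp ω q + wp ω i * (wp ω q * wp ω q) =
        if q = i then 3 else 0 := by
      intro i q
      have h := sum_wp hω (q - i)
      rw [sum_three, zero_mul, wp_zero, one_mul] at h
      simp only [sub_eq_zero] at h
      rw [← h, ← hω.wp_add, ← hω.wp_add, ← hω.wp_add, show -i + q = q - i by ring,
        show i + (q + q) = 2 * (q - i) by
          have : ∀ i q : K3, i + (q + q) = 2 * (q - i) := by decide
          exact this i q]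
    have hπ : ∀ q, π *ᵥ cl q = (if q = p then (9 : F) else 0) • cl q := by
      intro q
      have t2 : (1 + wp ω (-p.2) • A₂ + wp ω p.2 • (A₂ * A₂)) *ᵥ cl q =
          (if q.2 = p.2 then (3 : F) else 0) • cl q := by
        rw [← hw, Matrix.add_mulVec, Matrix.add_mulVec, Matrix.one_mulVec, Matrix.smul_mulVec,
          Matrix.smul_mulVec, ← Matrix.mulVec_mulVec, e2, Matrix.mulVec_smul, e2]
        module
      have t1 : (1 + wp ω (-p.1) • A₁ + wp ω p.1 • (A₁ * A₁)) *ᵥ cl q =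
          (if q.1 = p.1 then (3 : F) else 0) • cl q := by
        rw [← hw, Matrix.add_mulVec, Matrix.add_mulVec, Matrix.one_mulVec, Matrix.smul_mulVec,
          Matrix.smul_mulVec, ← Matrix.mulVec_mulVec, e1, Matrix.mulVec_smul, e1]
        module
      show ((1 + wp ω (-p.1) • A₁ + wp ω p.1 • (A₁ * A₁)) *
        (1 + wp ω (-p.2) • A₂ + wp ω p.2 • (A₂ * A₂))) *ᵥ cl q = _
      rw [← Matrix.mulVec_mulVec, t2, Matrix.mulVec_smul, t1, smul_smul]
      congr 1
      by_cases h1 : q.1 = p.1 <;> by_cases h2 : q.2 = p.2 <;> simp [Prod.ext_iff, h1, h2]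
      norm_num
    have h := congrArg (fun x => π *ᵥ x) hc
    simp only [Matrix.mulVec_sum, Matrix.mulVec_smul, hπ, Matrix.mulVec_zero] at h
    rw [Finset.sum_eq_single p (fun q _ hq => by rw [if_neg hq, zero_smul, smul_zero])
      (by simp), if_pos rfl, smul_smul] at h
    have h9 : (9 : F) ≠ 0 := by
      rw [show (9 : F) = 3 * 3 by norm_num]; exact mul_ne_zero hω.three hω.three
    rcases smul_eq_zero.1 h with h | h
    · exact (mul_eq_zero.1 h).resolve_right h9
    · exact absurd h (hcl0 p)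
  -- an inverse
  let e9 : Fin 9 ≃ I9 := Fintype.equivOfCardEq (by simp [Fintype.card_prod])
  set P' : Matrix (Fin 9) (Fin 9) F := P.submatrix id e9 with hP'
  have hPu : IsUnit P' := by
    rw [← Matrix.linearIndependent_cols_iff_isUnit]
    exact hli.comp e9 e9.injective
  obtain ⟨V', hV'⟩ := hPu.exists_left_inv
  set W : Matrix I9 (Fin 9) F := V'.submatrix e9.symm id with hW
  have hPe : P = P'.submatrix id e9.symm := by
    rw [hP', Matrix.submatrix_submatrix]; simp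
  have hWP : W * P = 1 := by
    rw [hW, hPe, ← Matrix.submatrix_mul _ _ _ id _ Function.bijective_id, hV',
      Matrix.submatrix_one_equiv]
  have hPW : P * W = 1 := by
    have hP'V : P' * V' = 1 := mul_eq_one_comm.1 hV'
    rw [hW, hPe, Matrix.submatrix_mul_equiv, hP'V, Matrix.submatrix_id_id]
  let fwd : Matrix (Fin 9) (Fin 9) F → Matrix I9 I9 F := fun g => W * g * P
  let bwd : Matrix I9 I9 F → Matrix (Fin 9) (Fin 9) F := fun x => P * x * W
  have fmul : ∀ g h, fwd (g * h) = fwd g * fwd h := fun g h => by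
    show W * (g * h) * P = W * g * P * (W * h * P)
    rw [show W * g * P * (W * h * P) = W * g * (P * W) * h * P by simp only [Matrix.mul_assoc],
      hPW, Matrix.mul_one]
    simp only [Matrix.mul_assoc]
  have bf : ∀ g, bwd (fwd g) = g := fun g => by
    show P * (W * g * P) * W = g
    rw [show P * (W * g * P) * W = (P * W) * g * (P * W) by simp only [Matrix.mul_assoc], hPW,
      Matrix.one_mul, Matrix.mul_one]
  have fb : ∀ x, fwd (bwd x) = x := fun x => by
    show W * (P * x * W) * P = x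
    rw [show W * (P * x * W) * P = (W * P) * x * (W * P) by simp only [Matrix.mul_assoc], hWP,
      Matrix.one_mul, Matrix.mul_one]
  let ME : Matrix (Fin 9) (Fin 9) F ≃* Matrix I9 I9 F :=
    { toFun := fwd, invFun := bwd, left_inv := bf, right_inv := fb, map_mul' := fmul }
  refine ⟨P, W, hWP, hPW, ?_⟩
  -- the images of the generators
  have hmove : ∀ (A : Matrix (Fin 9) (Fin 9) F) (X : Matrix I9 I9 F),
      A * P = P * X → fwd A = X := fun A X h => by
    show W * A * P = X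
    rw [Matrix.mul_assoc, h, ← Matrix.mul_assoc, hWP, Matrix.one_mul]
  have hcolX : ∀ (A : Matrix (Fin 9) (Fin 9) F) (k : Fin 9) (p : I9),
      (A * P) k p = (A *ᵥ cl p) k := fun A k p => by
    simp [Matrix.mul_apply, Matrix.mulVec, dotProduct, P]
  have gA1 : fwd A₁ = P9 ω ((1, 0), 0) := hmove _ _ (by
    ext k ⟨i, j⟩
    rw [hcolX, e1, Matrix.mul_apply, Finset.sum_eq_single (i, j)]
    · simp [P, P9, P3_apply, mul_comm]
    · rintro ⟨x, y⟩ _ hb
      simp only [P9, Matrix.kroneckerMap_apply, P3_apply, P3_zero, Matrix.one_apply]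
      by_cases hx : x = i
      · subst hx; simp [show y ≠ j from fun h => hb (by rw [h])]
      · simp [hx]
    · simp)
  have gA2 : fwd A₂ = P9 ω (0, (1, 0)) := hmove _ _ (by
    ext k ⟨i, j⟩
    rw [hcolX, e2, Matrix.mul_apply, Finset.sum_eq_single (i, j)]
    · simp [P, P9, P3_apply, mul_comm]
    · rintro ⟨x, y⟩ _ hb
      simp only [P9, Matrix.kroneckerMap_apply, P3_apply, P3_zero, Matrix.one_apply]
      by_cases hx : x = i
      · subst hx; simp [show y ≠ j from fun h => hb (by rw [h])]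
      · simp [hx]
    · simp)
  have gB1 : fwd B₁ = P9 ω ((0, 1), 0) := hmove _ _ (by
    ext k ⟨i, j⟩
    rw [hcolX, eb1, Matrix.mul_apply, Finset.sum_eq_single (i + 1, j)]
    · simp [P, P9, P3_apply]
    · rintro ⟨x, y⟩ _ hb
      simp only [P9, Matrix.kroneckerMap_apply, P3_apply, P3_zero, Matrix.one_apply]
      by_cases hx : x = i + 1
      · subst hx; simp [show y ≠ j from fun h => hb (by rw [h])]
      · simp [hx]
    · simp)
  have gB2 : fwd B₂ = P9 ω (0, (0, 1)) := hmove _ _ (by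
    ext k ⟨i, j⟩
    rw [hcolX, eb2, Matrix.mul_apply, Finset.sum_eq_single (i, j + 1)]
    · simp [P, P9, P3_apply]
    · rintro ⟨x, y⟩ _ hb
      simp only [P9, Matrix.kroneckerMap_apply, P3_apply, P3_zero, Matrix.one_apply]
      by_cases hx : x = i
      · subst hx; simp [show y ≠ j + 1 from fun h => hb (by rw [h])]
      · simp [hx]
    · simp)
  have hsmul : ∀ (c : F) g, fwd (c • g) = c • fwd g := fun c g => by
    show W * (c • g) * P = c • (W * g * P)
    rw [Matrix.mul_smul, Matrix.smul_mul]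
  have hone : fwd 1 = 1 := by
    show W * 1 * P = 1
    rw [Matrix.mul_one, hWP]
  have hpow : ∀ g n, fwd (g ^ n) = fwd g ^ n := fun g n => by
    induction n with
    | zero => rw [pow_zero, pow_zero, hone]
    | succ n ih => rw [pow_succ, fmul, ih, pow_succ]
  -- powers of weights
  have hPpow : ∀ v : W9, ∀ n : ℕ, ∃ k : F, k ≠ 0 ∧ P9 ω v ^ n = k • P9 ω (n • v) := by
    intro v n
    induction n with
    | zero => exact ⟨1, one_ne_zero, by simp [P9_zero]⟩
    | succ n ih =>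
      obtain ⟨k, hk, e⟩ := ih
      rw [pow_succ, e, Matrix.smul_mul, P9_mul hω, smul_smul, succ_nsmul]
      exact ⟨_, mul_ne_zero hk (hω.wp_ne_zero _), rfl⟩
  have hword : ∀ v : W9, ∃ g ∈ R, ∃ k : F, k ≠ 0 ∧
      fwd (g : Matrix (Fin 9) (Fin 9) F) = k • P9 ω v := by
    intro v
    refine ⟨Q.a₁ ^ v.1.1.val * Q.b₁ ^ v.1.2.val * (Q.a₂ ^ v.2.1.val * Q.b₂ ^ v.2.2.val),
      mul_mem (mul_mem (pow_mem Q.m₁ _) (pow_mem Q.n₁ _))
        (mul_mem (pow_mem Q.m₂ _) (pow_mem Q.n₂ _)), ?_⟩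
    obtain ⟨k₁, h₁, f₁⟩ := hPpow ((1, 0), 0) v.1.1.val
    obtain ⟨k₂, h₂, f₂⟩ := hPpow ((0, 1), 0) v.1.2.val
    obtain ⟨k₃, h₃, f₃⟩ := hPpow (0, (1, 0)) v.2.1.val
    obtain ⟨k₄, h₄, f₄⟩ := hPpow (0, (0, 1)) v.2.2.val
    simp only [Units.val_mul, Units.val_pow_eq_pow_val, fmul, hpow, ← hA₁, ← hA₂, ← hB₁, ← hB₂,
      gA1, gA2, gB1, gB2, f₁, f₂, f₃, f₄, Matrix.smul_mul, Matrix.mul_smul, smul_smul, P9_mul hω]
    have hv : v.1.1.val • (((1 : K3), (0 : K3)), (0 : K3 × K3)) +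
        v.1.2.val • (((0 : K3), (1 : K3)), (0 : K3 × K3)) +
        (v.2.1.val • ((0 : K3 × K3), ((1 : K3), (0 : K3))) +
          v.2.2.val • ((0 : K3 × K3), ((0 : K3), (1 : K3)))) = v := by
      refine Prod.ext ?_ ?_
      · simpa using val_smul_basis v.1
      · simpa using val_smul_basis v.2
    rw [hv]
    refine ⟨_, ?_, rfl⟩
    repeat' apply mul_ne_zero
    all_goals first | assumption | exact hω.wp_ne_zero _
  have hall : ∀ g ∈ R, ∃ (t : K3) (v : W9),
      fwd (g : Matrix (Fin 9) (Fin 9) F) = wp ω t • P9 ω v := by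
    intro g hg
    have hfu : IsUnit (fwd (g : Matrix (Fin 9) (Fin 9) F)) := (g.isUnit).map ME
    obtain ⟨s, e, hs, he⟩ := exists_P9_of_id hω hfu (fun v => by
      obtain ⟨h, hh, k, hk, ek⟩ := hword v
      obtain ⟨t, ht⟩ := hR.comm g hg h hh
      refine ⟨wp ω t, smul_right_injective (Matrix I9 I9 F) hk ?_⟩
      show k • _ = k • _
      rw [← Matrix.mul_smul, ← ek, ← fmul, ht, hsmul, fmul, ek, Matrix.smul_mul, smul_comm])
    have h3 : s ^ 3 = 1 := by
      have h := congrArg fwd (cube hg)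
      rw [hpow, he, hone, smul_pow, pow_succ (P9 ω e), pow_two (P9 ω e), P9_cube hω] at h
      exact smul_left_injective F one_ne_zero (h.trans (one_smul F _).symm)
    obtain ⟨t, rfl⟩ := hω.exists_wp h3
    exact ⟨t, e, he⟩
  intro g
  constructor
  · exact hall g
  · rintro ⟨t, v, e⟩
    obtain ⟨h, hh, k, hk, ek⟩ := hword v
    obtain ⟨t', v', e'⟩ := hall h hh
    have hv' : v' = v := P9_line hω (c := (wp ω t')⁻¹ * k) (by
      rw [mul_smul, ← ek, e', smul_smul, inv_mul_cancel₀ (hω.wp_ne_zero _), one_smul])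
    subst hv'
    obtain ⟨z, hz, ez⟩ := hR.wp_mem (t - t')
    have : g = z * h := by
      refine Units.ext ?_
      rw [← bf (g : Matrix (Fin 9) (Fin 9) F), show fwd (g : Matrix (Fin 9) (Fin 9) F) = _ from e,
        Units.val_mul, ez, Matrix.smul_mul, Matrix.one_mul, ← bf (wp ω (t - t') •
        (h : Matrix (Fin 9) (Fin 9) F)), hsmul, e', smul_smul, ← hω.wp_add, sub_add_cancel]
    rw [this]
    exact mul_mem hz hh

end Cfsg.Agent.CSixNineTwo
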